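import Mathlib
import Cfsg.Agent.H2.LpSpB

set_option linter.all false in
theorem Cfsg.Agent.Eqn.Cfsg_Agent_H2LpSp_mw : True := by
  first | (have := @Cfsg.Agent.H2LpSp.mw.eq_def.{0,0,0,0,0,0,0,0}) | (have := @Cfsg.Agent.H2LpSp.mw.eq_def.{0,0,0,0,0,0,0}) | (have := @Cfsg.Agent.H2LpSp.mw.eq_def.{0,0,0,0,0,0}) | (have := @Cfsg.Agent.H2LpSp.mw.eq_def.{0,0,0,0,0}) | (have := @Cfsg.Agent.H2LpSp.mw.eq_def.{0,0,0,0}) | (have := @Cfsg.Agent.H2LpSp.mw.eq_def.{0,0,0}) | (have := @Cfsg.Agent.H2LpSp.mw.eq_def.{0,0}) | (have := @Cfsg.Agent.H2LpSp.mw.eq_def.{0}) | (have := @Cfsg.Agent.H2LpSp.mw.eq_def) | skip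
  first | (have := @Cfsg.Agent.H2LpSp.mw.eq_1.{0,0,0,0,0,0,0,0}) | (have := @Cfsg.Agent.H2LpSp.mw.eq_1.{0,0,0,0,0,0,0}) | (have := @Cfsg.Agent.H2LpSp.mw.eq_1.{0,0,0,0,0,0}) | (have := @Cfsg.Agent.H2LpSp.mw.eq_1.{0,0,0,0,0}) | (have := @Cfsg.Agent.H2LpSp.mw.eq_1.{0,0,0,0}) | (have := @Cfsg.Agent.H2LpSp.mw.eq_1.{0,0,0}) | (have := @Cfsg.Agent.H2LpSp.mw.eq_1.{0,0}) | (have := @Cfsg.Agent.H2LpSp.mw.eq_1.{0}) | (have := @Cfsg.Agent.H2LpSp.mw.eq_1) | skip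
  first | (have := @Cfsg.Agent.H2LpSp.mw.eq_unfold.{0,0,0,0,0,0,0,0}) | (have := @Cfsg.Agent.H2LpSp.mw.eq_unfold.{0,0,0,0,0,0,0}) | (have := @Cfsg.Agent.H2LpSp.mw.eq_unfold.{0,0,0,0,0,0}) | (have := @Cfsg.Agent.H2LpSp.mw.eq_unfold.{0,0,0,0,0}) | (have := @Cfsg.Agent.H2LpSp.mw.eq_unfold.{0,0,0,0}) | (have := @Cfsg.Agent.H2LpSp.mw.eq_unfold.{0,0,0}) | (have := @Cfsg.Agent.H2LpSp.mw.eq_unfold.{0,0}) | (have := @Cfsg.Agent.H2LpSp.mw.eq_unfold.{0}) | (have := @Cfsg.Agent.H2LpSp.mw.eq_unfold) | skip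
  first | (have := @Cfsg.Agent.H2LpSp.mw.induct.{0,0,0,0,0,0,0,0}) | (have := @Cfsg.Agent.H2LpSp.mw.induct.{0,0,0,0,0,0,0}) | (have := @Cfsg.Agent.H2LpSp.mw.induct.{0,0,0,0,0,0}) | (have := @Cfsg.Agent.H2LpSp.mw.induct.{0,0,0,0,0}) | (have := @Cfsg.Agent.H2LpSp.mw.induct.{0,0,0,0}) | (have := @Cfsg.Agent.H2LpSp.mw.induct.{0,0,0}) | (have := @Cfsg.Agent.H2LpSp.mw.induct.{0,0}) | (have := @Cfsg.Agent.H2LpSp.mw.induct.{0}) | (have := @Cfsg.Agent.H2LpSp.mw.induct) | skip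
  first | (have := @Cfsg.Agent.H2LpSp.mw.induct_unfolding.{0,0,0,0,0,0,0,0}) | (have := @Cfsg.Agent.H2LpSp.mw.induct_unfolding.{0,0,0,0,0,0,0}) | (have := @Cfsg.Agent.H2LpSp.mw.induct_unfolding.{0,0,0,0,0,0}) | (have := @Cfsg.Agent.H2LpSp.mw.induct_unfolding.{0,0,0,0,0}) | (have := @Cfsg.Agent.H2LpSp.mw.induct_unfolding.{0,0,0,0}) | (have := @Cfsg.Agent.H2LpSp.mw.induct_unfolding.{0,0,0}) | (have := @Cfsg.Agent.H2LpSp.mw.induct_unfolding.{0,0}) | (have := @Cfsg.Agent.H2LpSp.mw.induct_unfolding.{0}) | (have := @Cfsg.Agent.H2LpSp.mw.induct_unfolding) | skip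
  first | (have := @Cfsg.Agent.H2LpSp.mw.mutual_induct.{0,0,0,0,0,0,0,0}) | (have := @Cfsg.Agent.H2LpSp.mw.mutual_induct.{0,0,0,0,0,0,0}) | (have := @Cfsg.Agent.H2LpSp.mw.mutual_induct.{0,0,0,0,0,0}) | (have := @Cfsg.Agent.H2LpSp.mw.mutual_induct.{0,0,0,0,0}) | (have := @Cfsg.Agent.H2LpSp.mw.mutual_induct.{0,0,0,0}) | (have := @Cfsg.Agent.H2LpSp.mw.mutual_induct.{0,0,0}) | (have := @Cfsg.Agent.H2LpSp.mw.mutual_induct.{0,0}) | (have := @Cfsg.Agent.H2LpSp.mw.mutual_induct.{0}) | (have := @Cfsg.Agent.H2LpSp.mw.mutual_induct) | skip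
  first | (have := @Cfsg.Agent.H2LpSp.mw.fun_cases.{0,0,0,0,0,0,0,0}) | (have := @Cfsg.Agent.H2LpSp.mw.fun_cases.{0,0,0,0,0,0,0}) | (have := @Cfsg.Agent.H2LpSp.mw.fun_cases.{0,0,0,0,0,0}) | (have := @Cfsg.Agent.H2LpSp.mw.fun_cases.{0,0,0,0,0}) | (have := @Cfsg.Agent.H2LpSp.mw.fun_cases.{0,0,0,0}) | (have := @Cfsg.Agent.H2LpSp.mw.fun_cases.{0,0,0}) | (have := @Cfsg.Agent.H2LpSp.mw.fun_cases.{0,0}) | (have := @Cfsg.Agent.H2LpSp.mw.fun_cases.{0}) | (have := @Cfsg.Agent.H2LpSp.mw.fun_cases) | skip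
  first | (have := @Cfsg.Agent.H2LpSp.mw.fun_cases_unfolding.{0,0,0,0,0,0,0,0}) | (have := @Cfsg.Agent.H2LpSp.mw.fun_cases_unfolding.{0,0,0,0,0,0,0}) | (have := @Cfsg.Agent.H2LpSp.mw.fun_cases_unfolding.{0,0,0,0,0,0}) | (have := @Cfsg.Agent.H2LpSp.mw.fun_cases_unfolding.{0,0,0,0,0}) | (have := @Cfsg.Agent.H2LpSp.mw.fun_cases_unfolding.{0,0,0,0}) | (have := @Cfsg.Agent.H2LpSp.mw.fun_cases_unfolding.{0,0,0}) | (have := @Cfsg.Agent.H2LpSp.mw.fun_cases_unfolding.{0,0}) | (have := @Cfsg.Agent.H2LpSp.mw.fun_cases_unfolding.{0}) | (have := @Cfsg.Agent.H2LpSp.mw.fun_cases_unfolding) | skip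
  first | (have := @Cfsg.Agent.H2LpSp.mw.congr_simp.{0,0,0,0,0,0,0,0}) | (have := @Cfsg.Agent.H2LpSp.mw.congr_simp.{0,0,0,0,0,0,0}) | (have := @Cfsg.Agent.H2LpSp.mw.congr_simp.{0,0,0,0,0,0}) | (have := @Cfsg.Agent.H2LpSp.mw.congr_simp.{0,0,0,0,0}) | (have := @Cfsg.Agent.H2LpSp.mw.congr_simp.{0,0,0,0}) | (have := @Cfsg.Agent.H2LpSp.mw.congr_simp.{0,0,0}) | (have := @Cfsg.Agent.H2LpSp.mw.congr_simp.{0,0}) | (have := @Cfsg.Agent.H2LpSp.mw.congr_simp.{0}) | (have := @Cfsg.Agent.H2LpSp.mw.congr_simp) | skip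
  trivial
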